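import Mathlib
import Cfsg.Agent.Lib.Helper2.UT12

set_option autoImplicit false

/-!
Eichler (Siegel) transformations of a Hermitian space, coordinate free, on top of the
`IsHerm` / `isom` / `tv` framework.  For an isotropic vector `p`, a vector `z ⟂ p` and a scalar
`c`, `eich h p z c` is the map `x ↦ x + H(x,p) z − H(x,z) p + c H(x,p) p`; it has determinant one
and is an isometry as soon as `c + σ c + H(z,z) = 0`.
-/

namespace Cfsg.Agent.Lib.Helper1.SUR

open Module Cfsg.Agent.Lib.Helper2 Cfsg.Agent.Lib.Helper2.IsomDecomp Cfsg.Agent.Lib.Helper2.UT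
  Cfsg.Agent.Lib.Helper5.PSLCoset

variable {F : Type*} [Field F] {σ : F ≃+* F} {V : Type*} [AddCommGroup V] [Module F V]
  {H : V → V → F}

/-- Eichler transformation `x ↦ x + H(x,p) z − H(x,z) p + c H(x,p) p`. -/
noncomputable def eich (h : IsHerm σ H) (p z : V) (c : F) (hp : H p p = 0) (hz : H z p = 0) :
    V ≃ₗ[F] V :=
  LinearEquiv.transvection (f := -(h.toDual z) + (c + H z z) • h.toDual p) (v := p)
      (by
        rw [LinearMap.add_apply, LinearMap.neg_apply, LinearMap.smul_apply, IsHerm.toDual_apply,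
          IsHerm.toDual_apply, hp, smul_zero, add_zero, h.symm z p, hz, map_zero, neg_zero]) *
    LinearEquiv.transvection (f := h.toDual p) (v := z) (by rw [IsHerm.toDual_apply, hz])

theorem eich_apply (h : IsHerm σ H) (p z : V) (c : F) (hp : H p p = 0) (hz : H z p = 0) (x : V) :
    eich h p z c hp hz x = x + H x p • z - H x z • p + (c * H x p) • p := by
  unfold eich
  rw [LinearEquiv.mul_apply, LinearEquiv.transvection.apply, LinearEquiv.transvection.apply]
  simp only [LinearMap.add_apply, LinearMap.neg_apply, LinearMap.smul_apply, IsHerm.toDual_apply,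
    h.add_left, h.smul_left, hz, smul_eq_mul]
  module

theorem det_eich (h : IsHerm σ H) (p z : V) (c : F) (hp : H p p = 0) (hz : H z p = 0) :
    LinearEquiv.det (eich h p z c hp hz) = 1 := by
  unfold eich
  rw [map_mul, LinearEquiv.transvection.det_eq_one, LinearEquiv.transvection.det_eq_one, one_mul]

theorem eich_congr (h : IsHerm σ H) {p p' z z' : V} {c c' : F} (hp : H p p = 0) (hz : H z p = 0)
    (hpp : p = p') (hzz : z = z') (hcc : c = c') :
    eich h p z c hp hz = eich h p' z' c' (by rw [← hpp]; exact hp) (by rw [← hpp, ← hzz]; exact hz) := by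
  subst hpp hzz hcc
  rfl

theorem eich_mem_isom (h : IsHerm σ H) (p z : V) (c : F) (hp : H p p = 0) (hz : H z p = 0)
    (hc : c + σ c + H z z = 0) : eich h p z c hp hz ∈ isom H := by
  intro x y
  have hpz : H p z = 0 := by rw [h.symm z p, hz, map_zero]
  rw [eich_apply, eich_apply]
  simp only [h.add_left, h.sub_left, h.smul_left, h.add_right, h.sub_right, h.smul_right, hp, hz,
    hpz, map_mul, h.symm y p, h.symm y z]
  linear_combination (H x p * σ (H y p)) * hc

theorem eich_mul (h : IsHerm σ H) (p z z' : V) (c c' : F) (hp : H p p = 0) (hz : H z p = 0)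
    (hz' : H z' p = 0) :
    eich h p z c hp hz * eich h p z' c' hp hz' =
      eich h p (z + z') (c + c' - H z' z) hp (by rw [h.add_left, hz, hz', add_zero]) := by
  apply LinearEquiv.ext
  intro x
  have hpz : H p z = 0 := by rw [h.symm z p, hz, map_zero]
  rw [LinearEquiv.mul_apply, eich_apply, eich_apply, eich_apply]
  simp only [h.add_left, h.sub_left, h.smul_left, h.add_right, hp, hz', hpz]
  module

theorem eich_zero_zero (h : IsHerm σ H) (p : V) (hp : H p p = 0) :
    eich h p 0 0 hp (h.zero_left p) = 1 := by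
  apply LinearEquiv.ext
  intro x
  rw [eich_apply, h.zero_right]
  simp

theorem eich_inv (h : IsHerm σ H) (p z : V) (c : F) (hp : H p p = 0)
    (hz : H z p = 0) (hc : c + σ c + H z z = 0) :
    (eich h p z c hp hz)⁻¹ = eich h p (-z) (σ c) hp (by rw [h.neg_left, hz, neg_zero]) := by
  rw [inv_eq_iff_mul_eq_one, eich_mul, ← eich_zero_zero h p hp]
  apply eich_congr
  · rfl
  · rw [add_neg_cancel]
  · rw [h.neg_left]
    linear_combination hc

theorem conj_eich (h : IsHerm σ H) {g : V ≃ₗ[F] V} (hg : g ∈ isom H) (p z : V) (c : F)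
    (hp : H p p = 0) (hz : H z p = 0) :
    g * eich h p z c hp hz * g⁻¹ =
      eich h (g p) (g z) c (by rw [hg, hp]) (by rw [hg, hz]) := by
  apply LinearEquiv.ext
  intro x
  have h1 : g (g⁻¹ x) = x := by
    rw [← LinearEquiv.mul_apply, mul_inv_cancel]
    rfl
  have h2 : ∀ w, H (g⁻¹ x) w = H x (g w) := by
    intro w
    rw [← hg (g⁻¹ x) w, h1]
  rw [LinearEquiv.mul_apply, LinearEquiv.mul_apply, eich_apply, eich_apply, map_add, map_sub,
    map_add, map_smul, map_smul, map_smul, h1, h2, h2]

theorem eich_add_smul (h : IsHerm σ H) (p z : V) (c s : F) (hp : H p p = 0) (hz : H z p = 0) :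
    eich h p (z + s • p) c hp (by rw [h.add_left, h.smul_left, hz, hp, mul_zero, add_zero]) =
      eich h p z (c + s - σ s) hp hz := by
  apply LinearEquiv.ext
  intro x
  rw [eich_apply, eich_apply, h.add_right, h.smul_right]
  module

theorem eich_zero_eq_tv (h : IsHerm σ H) (p : V) (c : F) (hp : H p p = 0) :
    eich h p 0 c hp (h.zero_left p) = tv h p c hp := by
  apply LinearEquiv.ext
  intro x
  rw [eich_apply, tv_apply, h.zero_right]
  simp

/-- the transformation moves `x` only by vectors in the span of `z` and `p` -/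
theorem eich_apply_of_orth (h : IsHerm σ H) (p z : V) (c : F) (hp : H p p = 0) (hz : H z p = 0)
    (x : V) (hxp : H x p = 0) (hxz : H x z = 0) : eich h p z c hp hz x = x := by
  rw [eich_apply, hxp, hxz]
  simp

end Cfsg.Agent.Lib.Helper1.SUR
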