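import Mathlib
import Cfsg.Agent.Lib.Helper1.SUR.Eich

set_option autoImplicit false

/-!
The subgroup `Q = {E_{e0}(z,c)}` and the trace `A = {z : E(z,c) ∈ K for some c}` of a subgroup
`K` on it.
-/

namespace Cfsg.Agent.Lib.Helper1.SUR

open Module Cfsg.Agent.Lib.Helper2 Cfsg.Agent.Lib.Helper2.IsomDecomp Cfsg.Agent.Lib.Helper2.UT
  Cfsg.Agent.Lib.Helper5.PSLCoset

variable {F : Type*} [Field F] {σ : F ≃+* F} {V : Type*} [AddCommGroup V] [Module F V]
  {H : V → V → F}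

/-- the vectors `z ⟂ e0` for which some isometry `E_{e0}(z,c)` lies in `K` -/
def aSet (h : IsHerm σ H) (K : Subgroup (V ≃ₗ[F] V)) (e0 : V) (he0 : H e0 e0 = 0) : Set V :=
  {z | ∃ (hz : H z e0 = 0) (c : F), c + σ c + H z z = 0 ∧ eich h e0 z c he0 hz ∈ K}

section

variable (h : IsHerm σ H) (K : Subgroup (V ≃ₗ[F] V)) (e0 : V) (he0 : H e0 e0 = 0)

theorem aSet_orth {z : V} (hz : z ∈ aSet h K e0 he0) : H z e0 = 0 := by
  obtain ⟨hz, _⟩ := hz
  exact hz

theorem aSet_zero : (0 : V) ∈ aSet h K e0 he0 := by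
  refine ⟨h.zero_left e0, 0, ?_, ?_⟩
  · rw [map_zero, h.zero_left]
    ring
  · rw [eich_zero_zero]
    exact K.one_mem

theorem aSet_add {z z' : V} (hz : z ∈ aSet h K e0 he0) (hz' : z' ∈ aSet h K e0 he0) :
    z + z' ∈ aSet h K e0 he0 := by
  obtain ⟨hz, c, hc, hK⟩ := hz
  obtain ⟨hz', c', hc', hK'⟩ := hz'
  refine ⟨by rw [h.add_left, hz, hz', add_zero], c + c' - H z' z, ?_, ?_⟩
  · rw [map_sub, map_add, h.add_left, h.add_right, h.add_right, ← h.symm z' z]
    linear_combination hc + hc'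
  · rw [← eich_mul h e0 z z' c c' he0 hz hz']
    exact K.mul_mem hK hK'

theorem aSet_neg {z : V} (hz : z ∈ aSet h K e0 he0) : -z ∈ aSet h K e0 he0 := by
  obtain ⟨hz, c, hc, hK⟩ := hz
  refine ⟨by rw [h.neg_left, hz, neg_zero], σ c, ?_, ?_⟩
  · have h1 : σ (c + σ c + H z z) = 0 := by rw [hc, map_zero]
    rw [map_add, map_add, ← h.symm z z] at h1
    rw [h.neg_left, h.symm (-z) z, h.neg_left, map_neg, ← h.symm z z, neg_neg]
    linear_combination h1
  · rw [← eich_inv h e0 z c he0 hz hc]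
    exact K.inv_mem hK

theorem aSet_sub {z z' : V} (hz : z ∈ aSet h K e0 he0) (hz' : z' ∈ aSet h K e0 he0) :
    z - z' ∈ aSet h K e0 he0 := by
  rw [sub_eq_add_neg]
  exact aSet_add h K e0 he0 hz (aSet_neg h K e0 he0 hz')

theorem aSet_smul_e0 (hσ : ∀ a : F, σ (σ a) = a) (s : F) : s • e0 ∈ aSet h K e0 he0 := by
  have hz : H (s • e0) e0 = 0 := by rw [h.smul_left, he0, mul_zero]
  refine ⟨hz, σ s - s, ?_, ?_⟩
  · rw [h.smul_left, h.smul_right, he0, map_sub, hσ]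
    ring
  · have h2 : eich h e0 (s • e0) (σ s - s) he0 hz = 1 := by
      apply LinearEquiv.ext
      intro x
      rw [eich_apply, h.smul_right, LinearEquiv.coe_one, id_eq]
      module
    rw [h2]
    exact K.one_mem

/-- an isometry in `K` fixing `e0` maps `A` into itself -/
theorem aSet_map {g : V ≃ₗ[F] V} (hgK : g ∈ K) (hg : g ∈ isom H) (hge : g e0 = e0) {z : V}
    (hz : z ∈ aSet h K e0 he0) : g z ∈ aSet h K e0 he0 := by
  obtain ⟨hz, c, hc, hK⟩ := hz
  have hgz : H (g z) e0 = 0 := by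
    rw [← hge, hg, hz]
  refine ⟨hgz, c, ?_, ?_⟩
  · rw [hg]
    exact hc
  · have h1 : g * eich h e0 z c he0 hz * g⁻¹ ∈ K := K.mul_mem (K.mul_mem hgK hK) (K.inv_mem hgK)
    rw [conj_eich h hg] at h1
    rw [eich_congr h he0 hgz hge.symm rfl rfl]
    exact h1

theorem aSet_map_inv {g : V ≃ₗ[F] V} (hgK : g ∈ K) (hg : g ∈ isom H) (hge : g e0 = e0) {z : V}
    (hz : z ∈ aSet h K e0 he0) : g⁻¹ z ∈ aSet h K e0 he0 := by
  apply aSet_map h K e0 he0 (K.inv_mem hgK) ((isom H).inv_mem hg) _ hz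
  have h1 : g⁻¹ (g e0) = e0 := by
    rw [← LinearEquiv.mul_apply, inv_mul_cancel]
    rfl
  rwa [hge] at h1

/-- two elements of `K` over the same vector differ by a central transvection -/
theorem tv_mem_of_eich_mem {z : V} {c c' : F} (hz : H z e0 = 0) (hc : c + σ c + H z z = 0)
    (hK : eich h e0 z c he0 hz ∈ K) (hK' : eich h e0 z c' he0 hz ∈ K) :
    tv h e0 (c' - c) he0 ∈ K := by
  have h1 : (eich h e0 z c he0 hz)⁻¹ * eich h e0 z c' he0 hz ∈ K := K.mul_mem (K.inv_mem hK) hK'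
  rw [eich_inv h e0 z c he0 hz hc, eich_mul] at h1
  rw [← eich_zero_eq_tv]
  have h2 : σ c + c' - H z (-z) = c' - c := by
    rw [h.symm (-z) z, h.neg_left, map_neg, ← h.symm z z]
    linear_combination hc
  rw [eich_congr h he0 (h.zero_left e0) rfl (neg_add_cancel z).symm h2.symm]
  exact h1

/-- multiplying by a central transvection -/
theorem eich_mem_of_tv_mem {z : V} {c c' : F} (hz : H z e0 = 0)
    (hK : eich h e0 z c he0 hz ∈ K) (hK' : tv h e0 (c' - c) he0 ∈ K) :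
    eich h e0 z c' he0 hz ∈ K := by
  have h1 : eich h e0 z c he0 hz * eich h e0 0 (c' - c) he0 (h.zero_left e0) ∈ K := by
    rw [eich_zero_eq_tv]
    exact K.mul_mem hK hK'
  rw [eich_mul] at h1
  rw [eich_congr h he0 hz rfl (add_zero z).symm
    (show c' = c + (c' - c) - H 0 z by rw [h.zero_left]; ring)]
  exact h1

/-- the commutator with a conjugate of an element of `Q` -/
theorem aSet_comm {g : V ≃ₗ[F] V} (hgK : g ∈ K) (hg : g ∈ isom H) {z zx : V} {cx : F}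
    (hz : z ∈ aSet h K e0 he0) (hzx : H zx e0 = 0) (hcx : cx + σ cx + H zx zx = 0)
    (hxK : eich h e0 zx cx he0 hzx ∈ K) (hp : H (g e0) e0 = 0) (hzx' : H (g zx) e0 = 0) :
    (-(σ (H (g e0) z))) • g zx + (σ (H (g zx) z) - cx * σ (H (g e0) z)) • g e0 ∈
      aSet h K e0 he0 := by
  have hb : g * eich h e0 zx cx he0 hzx * g⁻¹ ∈ K := K.mul_mem (K.mul_mem hgK hxK) (K.inv_mem hgK)
  have hbi : g * eich h e0 zx cx he0 hzx * g⁻¹ ∈ isom H :=
    (isom H).mul_mem ((isom H).mul_mem hg (eich_mem_isom h e0 zx cx he0 hzx hcx))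
      ((isom H).inv_mem hg)
  rw [conj_eich h hg] at hb hbi
  have h1 : H e0 (g e0) = 0 := by rw [h.symm (g e0) e0, hp, map_zero]
  have h2 : H e0 (g zx) = 0 := by rw [h.symm (g zx) e0, hzx', map_zero]
  have hbe : eich h (g e0) (g zx) cx (by rw [hg, he0]) (by rw [hg, hzx]) e0 = e0 := by
    rw [eich_apply, h1, h2]
    simp
  have h3 := aSet_map h K e0 he0 hb hbi hbe hz
  have h4 := aSet_sub h K e0 he0 hz h3
  rw [eich_apply, h.symm (g e0) z, h.symm (g zx) z] at h4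
  have h5 : z - (z + σ (H (g e0) z) • g zx - σ (H (g zx) z) • g e0 +
      (cx * σ (H (g e0) z)) • g e0) =
      (-(σ (H (g e0) z))) • g zx + (σ (H (g zx) z) - cx * σ (H (g e0) z)) • g e0 := by
    module
  rw [← h5]
  exact h4

end

end Cfsg.Agent.Lib.Helper1.SUR
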