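import Mathlib
import Cfsg.Agent.Lib.Helper1.SUR.Eich

set_option autoImplicit false

/-!
Witt frames of a Hermitian space of dimension `2m+1` and the explicit elements used for the
generation of `SU_{2m+1}` by three conjugate regular unipotent elements.
-/

namespace Cfsg.Agent.Lib.Helper1.SUR

open Module Cfsg.Agent.Lib.Helper2 Cfsg.Agent.Lib.Helper2.IsomDecomp Cfsg.Agent.Lib.Helper2.UT
  Cfsg.Agent.Lib.Helper5.PSLCoset

variable {F : Type*} [Field F] {σ : F ≃+* F} {V : Type*} [AddCommGroup V] [Module F V]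
  {H : V → V → F}

/-- a Witt frame: isotropic `e i`, `f i` (`i < m`) in duality, a vector `d` of norm one orthogonal
to them, and every vector is the combination of these given by its products with the frame -/
structure Frame (H : V → V → F) (m : ℕ) (e f : ℕ → V) (d : V) : Prop where
  ee : ∀ i j, i < m → j < m → H (e i) (e j) = 0
  ff : ∀ i j, i < m → j < m → H (f i) (f j) = 0
  ef : ∀ i j, i < m → j < m → H (e i) (f j) = if i = j then 1 else 0
  fe : ∀ i j, i < m → j < m → H (f i) (e j) = if i = j then 1 else 0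
  dd : H d d = 1
  ed : ∀ i, i < m → H (e i) d = 0
  de : ∀ i, i < m → H d (e i) = 0
  fd : ∀ i, i < m → H (f i) d = 0
  df : ∀ i, i < m → H d (f i) = 0
  expand : ∀ x, x = ∑ i ∈ Finset.range m, (H x (f i) • e i + H x (e i) • f i) + H x d • d

section elements

variable (h : IsHerm σ H) {m : ℕ} {e f : ℕ → V} {d : V} (fr : Frame H m e f d)

/-- `x ↦ x − H(x,e_k) f_{k+1} + H(x,f_{k+1}) e_k`: `e_{k+1} ↦ e_{k+1} + e_k`, `f_k ↦ f_k − f_{k+1}`,
the other frame vectors fixed (identity when `k + 1 ≥ m`) -/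
noncomputable def xel (k : ℕ) : V ≃ₗ[F] V :=
  if hk : k + 1 < m then
    eich h (e k) (-(f (k + 1))) 0 (fr.ee k k (by omega) (by omega))
      (by rw [h.neg_left, fr.fe (k + 1) k hk (by omega), if_neg (by omega), neg_zero])
  else 1

/-- `uLevi k = X_{k-1} ∘ ⋯ ∘ X_0` -/
noncomputable def uLevi : ℕ → (V ≃ₗ[F] V)
  | 0 => 1
  | (k + 1) => xel h fr k * uLevi k

/-- `E_{e_{m-1}}(a d, c)`: `d ↦ d − σ(a) e_{m-1}`, `f_{m-1} ↦ f_{m-1} + a d + c e_{m-1}` -/
noncomputable def qel (hm : 1 ≤ m) (a c : F) : V ≃ₗ[F] V :=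
  eich h (e (m - 1)) (a • d) c (fr.ee _ _ (by omega) (by omega))
    (by rw [h.smul_left, fr.de _ (by omega), mul_zero])

/-- the regular unipotent element -/
noncomputable def uel (hm : 1 ≤ m) (a c : F) : V ≃ₗ[F] V :=
  qel h fr hm a c * uLevi h fr (m - 1)

/-- `e_1 ↦ e_0 ↦ −e_1` -/
noncomputable def w0 (hm : 2 ≤ m) : V ≃ₗ[F] V :=
  eich h (e 0) (-(f 1)) 0 (fr.ee 0 0 (by omega) (by omega))
      (by rw [h.neg_left, fr.fe 1 0 (by omega) (by omega), if_neg (by omega), neg_zero]) *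
    eich h (e 1) (f 0) 0 (fr.ee 1 1 (by omega) (by omega))
      (by rw [fr.fe 0 1 (by omega) (by omega), if_neg (by omega)]) *
    eich h (e 0) (-(f 1)) 0 (fr.ee 0 0 (by omega) (by omega))
      (by rw [h.neg_left, fr.fe 1 0 (by omega) (by omega), if_neg (by omega), neg_zero])

/-- `e_1 ↦ −μ⁻¹ f_1`, `f_1 ↦ μ e_1`, identity on the orthogonal of `e_1, f_1` -/
noncomputable def w1 (hm : 2 ≤ m) (μ : F) : V ≃ₗ[F] V :=
  tv h (e 1) μ (fr.ee 1 1 (by omega) (by omega)) *
    tv h (f 1) (-μ⁻¹) (fr.ff 1 1 (by omega) (by omega)) *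
    tv h (e 1) μ (fr.ee 1 1 (by omega) (by omega))

/-- the Weyl-type element: `e_1 ↦ e_0 ↦ μ⁻¹ f_1` -/
noncomputable def sgel (hm : 2 ≤ m) (μ : F) : V ≃ₗ[F] V :=
  w1 h fr hm μ * w0 h fr hm

end elements

end Cfsg.Agent.Lib.Helper1.SUR
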