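import Mathlib
import Cfsg.Agent.Lib.Helper1.SUR.Defs
import Cfsg.Agent.Lib.Helper7.SURU

set_option autoImplicit false

/-!
Cyclicity: a subspace containing `e 0`, `f 1` and stable under the regular unipotent element and
its inverse contains the orthogonal of `e 0`.
-/

namespace Cfsg.Agent.Lib.Helper1.SUR

open Module Cfsg.Agent.Lib.Helper2 Cfsg.Agent.Lib.Helper2.IsomDecomp Cfsg.Agent.Lib.Helper2.UT
  Cfsg.Agent.Lib.Helper5.PSLCoset

variable {F : Type*} [Field F] {σ : F ≃+* F} {V : Type*} [AddCommGroup V] [Module F V]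
  {H : V → V → F}

theorem cyc (h : IsHerm σ H) {m : ℕ} {e f : ℕ → V} {d : V} (fr : Frame H m e f d) (hm : 2 ≤ m)
    {a c : F} (ha : a ≠ 0)
    (S : Submodule F V) (he0 : e 0 ∈ S) (hf1 : f 1 ∈ S)
    (hu : ∀ x ∈ S, uel h fr (by omega) a c x ∈ S)
    (hu' : ∀ x ∈ S, (uel h fr (by omega) a c)⁻¹ x ∈ S)
    (z : V) (hz : H z (e 0) = 0) : z ∈ S := by
  obtain ⟨m', rfl⟩ : ∃ m', m = m' + 2 := ⟨m - 2, by omega⟩
  have hm1 : 1 ≤ m' + 2 := by omega
  have hsub : ∀ x ∈ S, uel h fr hm1 a c x - x ∈ S := fun x hx => S.sub_mem (hu x hx) hx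
  have hsub' : ∀ x ∈ S, (uel h fr hm1 a c)⁻¹ x - x ∈ S := fun x hx => S.sub_mem (hu' x hx) hx
  -- the `f j`
  have hf : ∀ j, j < m' + 1 → f (j + 1) ∈ S := by
    intro j
    induction j with
    | zero => intro _; exact hf1
    | succ j ih =>
      intro hj
      have h1 := hsub' _ (ih (by omega))
      rw [uel_inv_f h fr hm1 a c (j + 1) (by omega), add_sub_cancel_left] at h1
      exact h1
  -- the vector `a d + c e_{m-1}`
  have hlast : m' + 2 - 1 = m' + 1 := by omega
  have hw : a • d + c • e (m' + 1) ∈ S := by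
    have h1 := hsub _ (hf m' (by omega))
    have h2 := uel_f_last h fr hm1 a c
    rw [hlast] at h2
    rw [h2] at h1
    have h3 : f (m' + 1) + a • d + c • e (m' + 1) - f (m' + 1) = a • d + c • e (m' + 1) := by
      abel
    rwa [h3] at h1
  have hN : a * σ a ≠ 0 := mul_ne_zero ha (by simpa using ha)
  -- the vectors `- N e_{k+1} + c e_k`
  have hv : ∀ i, i ≤ m' → (-(a * σ a)) • e (m' - i + 1) + c • e (m' - i) ∈ S := by
    intro i
    induction i with
    | zero =>
      intro _
      have h1 := hsub _ hw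
      have h2 := uel_d h fr hm1 a c
      rw [hlast] at h2
      rw [map_add, map_smul, map_smul, h2, uel_e_succ h fr hm1 a c m' (by omega)] at h1
      have h3 : a • (d - σ a • e (m' + 1)) + c • (e (m' + 1) + e m') -
          (a • d + c • e (m' + 1)) = (-(a * σ a)) • e (m' - 0 + 1) + c • e (m' - 0) := by
        rw [Nat.sub_zero]
        module
      rwa [h3] at h1
    | succ i ih =>
      intro hi
      have h1 := hsub _ (ih (by omega))
      obtain ⟨k, hk⟩ : ∃ k, m' - i = k + 1 := ⟨m' - i - 1, by omega⟩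
      have hk' : m' - (i + 1) = k := by omega
      rw [hk] at h1
      rw [hk']
      rw [map_add, map_smul, map_smul, uel_e_succ h fr hm1 a c (k + 1) (by omega),
        uel_e_succ h fr hm1 a c k (by omega)] at h1
      have h3 : (-(a * σ a)) • (e (k + 1 + 1) + e (k + 1)) + c • (e (k + 1) + e k) -
          ((-(a * σ a)) • e (k + 1 + 1) + c • e (k + 1)) = (-(a * σ a)) • e (k + 1) + c • e k := by
        module
      rwa [h3] at h1
  -- the `e k`
  have he : ∀ k, k ≤ m' + 1 → e k ∈ S := by
    intro k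
    induction k with
    | zero => intro _; exact he0
    | succ k ih =>
      intro hk
      have h1 := hv (m' - k) (by omega)
      have h2 : m' - (m' - k) = k := by omega
      rw [h2] at h1
      have h3 := S.sub_mem h1 (S.smul_mem c (ih (by omega)))
      have h4 : (-(a * σ a)) • e (k + 1) + c • e k - c • e k = (-(a * σ a)) • e (k + 1) := by
        abel
      rw [h4] at h3
      have h5 := S.smul_mem (-(a * σ a))⁻¹ h3
      rwa [smul_smul, inv_mul_cancel₀ (neg_ne_zero.2 hN), one_smul] at h5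
  -- the vector `d`
  have hd : d ∈ S := by
    have h1 := S.sub_mem hw (S.smul_mem c (he (m' + 1) le_rfl))
    rw [add_sub_cancel_right] at h1
    have h2 := S.smul_mem a⁻¹ h1
    rwa [smul_smul, inv_mul_cancel₀ ha, one_smul] at h2
  -- conclusion
  rw [fr.expand z]
  refine S.add_mem (S.sum_mem ?_) (S.smul_mem _ hd)
  intro i hi
  rw [Finset.mem_range] at hi
  refine S.add_mem (S.smul_mem _ (he i (by omega))) ?_
  rcases Nat.eq_zero_or_pos i with rfl | hpos
  · rw [hz, zero_smul]
    exact S.zero_mem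
  · obtain ⟨j, rfl⟩ : ∃ j, i = j + 1 := ⟨i - 1, by omega⟩
    exact S.smul_mem _ (hf j (by omega))

end Cfsg.Agent.Lib.Helper1.SUR
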