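import Mathlib
import Cfsg.Agent.Lib.Helper1.SUR.Heis
import Cfsg.Agent.Lib.Helper1.SUR.Cyc

set_option autoImplicit false

/-!
Facts on the conjugates `v₁ = τ u τ⁻¹` and `v₂ = s u s⁻¹` of the regular unipotent element.
-/

namespace Cfsg.Agent.Lib.Helper1.SUR

open Module Cfsg.Agent.Lib.Helper2 Cfsg.Agent.Lib.Helper2.IsomDecomp Cfsg.Agent.Lib.Helper2.UT
  Cfsg.Agent.Lib.Helper5.PSLCoset

variable {F : Type*} [Field F] {σ : F ≃+* F} {V : Type*} [AddCommGroup V] [Module F V]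
  {H : V → V → F}

theorem inv_apply_eq_of_apply_eq {g : V ≃ₗ[F] V} {x y : V} (hxy : g x = y) : g⁻¹ y = x := by
  rw [← hxy, ← LinearEquiv.mul_apply, inv_mul_cancel]
  rfl

theorem zpow_apply_of_fixed {g : V ≃ₗ[F] V} {x : V} (hx : g x = x) (j : ℤ) : (g ^ j) x = x := by
  have hinv : g⁻¹ x = x := inv_apply_eq_of_apply_eq hx
  induction j using Int.induction_on with
  | zero => rfl
  | succ i ih =>
    rw [zpow_add_one, LinearEquiv.mul_apply, hx, ih]
  | pred i ih =>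
    rw [zpow_sub_one, LinearEquiv.mul_apply, hinv, ih]

/-- `τ u τ⁻¹ u⁻¹` for `τ = E(zτ, cτ)` and an isometry `u` fixing `e0` -/
theorem tau_comm (h : IsHerm σ H) (e0 : V) (he0 : H e0 e0 = 0) {u : V ≃ₗ[F] V} (hu : u ∈ isom H)
    (hue : u e0 = e0) (zt : V) (ct : F) (hzt : H zt e0 = 0) (hct : ct + σ ct + H zt zt = 0) :
    eich h e0 zt ct he0 hzt * u * (eich h e0 zt ct he0 hzt)⁻¹ * u⁻¹ =
      eich h e0 (zt - u zt) (ct + σ ct + H (u zt) zt) he0
        (by rw [h.sub_left, hzt, ← hue, hu, hzt, sub_zero]) := by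
  have huz : H (u zt) e0 = 0 := by rw [← hue, hu, hzt]
  have h1 : eich h e0 zt ct he0 hzt * u * (eich h e0 zt ct he0 hzt)⁻¹ * u⁻¹ =
      eich h e0 zt ct he0 hzt * (u * (eich h e0 zt ct he0 hzt)⁻¹ * u⁻¹) := by group
  rw [h1, eich_inv h e0 zt ct he0 hzt hct, conj_eich h hu]
  have h2 : eich h (u e0) (u (-zt)) (σ ct) (by rw [hu, he0])
      (by rw [hu, h.neg_left, hzt, neg_zero]) =
      eich h e0 (-(u zt)) (σ ct) he0 (by rw [h.neg_left, huz, neg_zero]) :=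
    eich_congr h _ _ hue (map_neg u zt) rfl
  rw [h2, eich_mul]
  apply eich_congr
  · rfl
  · rw [sub_eq_add_neg]
  · rw [h.neg_left]
    ring

end Cfsg.Agent.Lib.Helper1.SUR
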