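import Mathlib
import Cfsg.Agent.Lib.Helper1.SUR.Core1
import Cfsg.Agent.Lib.Helper4.SURW

set_option autoImplicit false

/-!
The conjugate `v₂ = s u s⁻¹` of the regular unipotent element by the Weyl-type element.
-/

namespace Cfsg.Agent.Lib.Helper1.SUR

open Module Cfsg.Agent.Lib.Helper2 Cfsg.Agent.Lib.Helper2.IsomDecomp Cfsg.Agent.Lib.Helper2.UT
  Cfsg.Agent.Lib.Helper5.PSLCoset

variable {F : Type*} [Field F] {σ : F ≃+* F} {V : Type*} [AddCommGroup V] [Module F V]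
  {H : V → V → F}

section v2

variable (h : IsHerm σ H) {m : ℕ} {e f : ℕ → V} {d : V} (fr : Frame H m e f d) (hm : 2 ≤ m)
  (a c μ : F)

/-- the conjugate of the regular unipotent element by the Weyl-type element -/
noncomputable def v2el : V ≃ₗ[F] V :=
  sgel h fr hm μ * uel h fr (by omega) a c * (sgel h fr hm μ)⁻¹

theorem v2el_mem_isom (hc : c + σ c + a * σ a = 0) (hμ : σ μ = -μ) (hμ0 : μ ≠ 0) :
    v2el h fr hm a c μ ∈ isom H :=
  (isom H).mul_mem ((isom H).mul_mem (sgel_mem_isom h fr hm hμ hμ0)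
    (uel_mem_isom h fr (by omega) hc)) ((isom H).inv_mem (sgel_mem_isom h fr hm hμ hμ0))

theorem uel_e_one : uel h fr (by omega) a c (e 1) = e 1 + e 0 :=
  uel_e_succ h fr (by omega) a c 0 (by omega)

theorem uel_inv_e_one : (uel h fr (by omega) a c)⁻¹ (e 1) = e 1 - e 0 := by
  apply inv_apply_eq_of_apply_eq
  rw [map_sub, uel_e_one h fr hm a c, uel_e_zero]
  abel

theorem v2el_e_zero (hμ0 : μ ≠ 0) : v2el h fr hm a c μ (e 0) = e 0 + μ⁻¹ • f 1 := by
  unfold v2el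
  rw [LinearEquiv.mul_apply, LinearEquiv.mul_apply,
    inv_apply_eq_of_apply_eq (sgel_e_one h fr hm hμ0), uel_e_one h fr hm a c, map_add, sgel_e_one h fr hm hμ0,
    sgel_e_zero h fr hm hμ0]

theorem v2el_inv_e_zero (hμ0 : μ ≠ 0) : (v2el h fr hm a c μ)⁻¹ (e 0) = e 0 - μ⁻¹ • f 1 := by
  have h1 : (v2el h fr hm a c μ)⁻¹ =
      sgel h fr hm μ * (uel h fr (by omega) a c)⁻¹ * (sgel h fr hm μ)⁻¹ := by
    unfold v2el
    group
  rw [h1, LinearEquiv.mul_apply, LinearEquiv.mul_apply,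
    inv_apply_eq_of_apply_eq (sgel_e_one h fr hm hμ0), uel_inv_e_one h fr hm a c, map_sub,
    sgel_e_one h fr hm hμ0, sgel_e_zero h fr hm hμ0]

theorem v2el_e_two (hμ0 : μ ≠ 0) (hm3 : 3 ≤ m) : v2el h fr hm a c μ (e 2) = e 2 + e 0 := by
  unfold v2el
  rw [LinearEquiv.mul_apply, LinearEquiv.mul_apply,
    inv_apply_eq_of_apply_eq (sgel_e_ge h fr hm μ 2 le_rfl (by omega)),
    uel_e_succ h fr (by omega) a c 1 (by omega), map_add,
    sgel_e_ge h fr hm μ 2 le_rfl (by omega), sgel_e_one h fr hm hμ0]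

theorem v2el_d (hμ0 : μ ≠ 0) (hm2 : m = 2) : v2el h fr hm a c μ d = d - σ a • e 0 := by
  unfold v2el
  rw [LinearEquiv.mul_apply, LinearEquiv.mul_apply,
    inv_apply_eq_of_apply_eq (sgel_d h fr hm μ), uel_d, map_sub, map_smul, sgel_d]
  have h1 : m - 1 = 1 := by omega
  rw [h1, sgel_e_one h fr hm hμ0]

end v2

end Cfsg.Agent.Lib.Helper1.SUR
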