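import Mathlib
import Cfsg.Agent.Lib.Helper1.SUR.Core2

set_option autoImplicit false

/-!
From `Γ = F` to the generation: the subgroup contains all unitary transvections.
-/

namespace Cfsg.Agent.Lib.Helper1.SUR

open Module Cfsg.Agent.Lib.Helper2 Cfsg.Agent.Lib.Helper2.IsomDecomp Cfsg.Agent.Lib.Helper2.UT
  Cfsg.Agent.Lib.Helper5.PSLCoset

variable {F : Type*} [Field F] {σ : F ≃+* F} {V : Type*} [AddCommGroup V] [Module F V]
  {H : V → V → F}

/-- the vectors all of whose multiples lie in `A` -/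
def sSub (h : IsHerm σ H) (K : Subgroup (V ≃ₗ[F] V)) (e0 : V) (he0 : H e0 e0 = 0) :
    Submodule F V where
  carrier := {z | ∀ l : F, l • z ∈ aSet h K e0 he0}
  add_mem' := by
    intro x y hx hy l
    rw [smul_add]
    exact aSet_add h K e0 he0 (hx l) (hy l)
  zero_mem' := by
    intro l
    rw [smul_zero]
    exact aSet_zero h K e0 he0
  smul_mem' := by
    intro c x hx l
    rw [smul_smul]
    exact hx (l * c)

theorem mem_sSub (h : IsHerm σ H) (K : Subgroup (V ≃ₗ[F] V)) (e0 : V) (he0 : H e0 e0 = 0) (z : V) :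
    z ∈ sSub h K e0 he0 ↔ ∀ l : F, l • z ∈ aSet h K e0 he0 := Iff.rfl

/-- the vectors orthogonal to all `u^j f₁` -/
def oSub (h : IsHerm σ H) (u : V ≃ₗ[F] V) (w : V) : Submodule F V where
  carrier := {x | ∀ j : ℤ, H x ((u ^ j) w) = 0}
  add_mem' := by
    intro x y hx hy j
    rw [h.add_left, hx j, hy j, add_zero]
  zero_mem' := by
    intro j
    exact h.zero_left _
  smul_mem' := by
    intro c x hx j
    rw [h.smul_left, hx j, mul_zero]

section

variable (h : IsHerm σ H) {m : ℕ} {e f : ℕ → V} {d : V}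
  (fr : Frame H m e f d) (hm : 2 ≤ m)

/-- some power of `u` moves `f₁` to a vector not orthogonal to `f₁` -/
theorem exists_zpow_ne {a c : F} (ha : a ≠ 0) (hc : c + σ c + a * σ a = 0) :
    ∃ j : ℤ, H (f 1) ((uel h fr (by omega) a c ^ j) (f 1)) ≠ 0 := by
  by_contra hcon
  push Not at hcon
  have hu := uel_mem_isom h fr (show 1 ≤ m by omega) hc
  have h0 : e 0 ∈ oSub h (uel h fr (by omega) a c) (f 1) := by
    intro j
    have h1 : H (e 0) ((uel h fr (by omega) a c ^ j) (f 1)) =
        H ((uel h fr (by omega) a c ^ j) (e 0)) ((uel h fr (by omega) a c ^ j) (f 1)) := by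
      rw [zpow_apply_of_fixed (uel_e_zero h fr (by omega) a c)]
    rw [h1, (isom H).zpow_mem hu j, fr.ef 0 1 (by omega) (by omega), if_neg (by omega)]
  have h1 : e 1 ∈ oSub h (uel h fr (by omega) a c) (f 1) := by
    apply cyc h fr hm ha (oSub h (uel h fr (by omega) a c) (f 1)) h0 hcon
    · intro x hx j
      have h2 : (uel h fr (by omega) a c ^ j) (f 1) =
          uel h fr (by omega) a c ((uel h fr (by omega) a c ^ (j - 1)) (f 1)) := by
        rw [← LinearEquiv.mul_apply, ← zpow_one_add, add_sub_cancel]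
      rw [h2, hu]
      exact hx (j - 1)
    · intro x hx j
      have h2 : (uel h fr (by omega) a c ^ j) (f 1) =
          (uel h fr (by omega) a c)⁻¹ ((uel h fr (by omega) a c ^ (j + 1)) (f 1)) := by
        rw [← LinearEquiv.mul_apply, ← zpow_neg_one, ← zpow_add,
          show (-1 : ℤ) + (j + 1) = j by ring]
      rw [h2, (isom H).inv_mem hu]
      exact hx (j + 1)
    · rw [fr.ee 1 0 (by omega) (by omega)]
  have h2 := h1 0
  rw [zpow_zero, LinearEquiv.coe_one, id_eq, fr.ef 1 1 (by omega) (by omega), if_pos rfl] at h2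
  exact one_ne_zero h2

end

end Cfsg.Agent.Lib.Helper1.SUR
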