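import Mathlib
import Cfsg.Agent.Lib.Helper1.SUR.Core3
import Cfsg.Agent.Lib.Helper4.SUREnd
import Cfsg.Agent.Lib.Lead.SURField

set_option autoImplicit false

/-!
From `Γ = F` to the generation: the subgroup contains all unitary transvections.
-/

namespace Cfsg.Agent.Lib.Helper1.SUR

open Module Cfsg.Agent.Lib.Helper2 Cfsg.Agent.Lib.Helper2.IsomDecomp Cfsg.Agent.Lib.Helper2.UT
  Cfsg.Agent.Lib.Helper5.PSLCoset

variable {F : Type*} [Field F] {σ : F ≃+* F} {V : Type*} [AddCommGroup V] [Module F V]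
  {H : V → V → F}

section

variable [Finite F] (hσ : orderOf σ = 2) (h : IsHerm σ H) {m : ℕ} {e f : ℕ → V} {d : V}
  (fr : Frame H m e f d) (hm : 2 ≤ m)

omit [Finite F] in
include hσ in
/-- Step 5 and 6: `A` is the whole orthogonal of `e 0` -/
theorem aSet_eq_orth {a c μ : F} (ha : a ≠ 0) (hc : c + σ c + a * σ a = 0) (hμ : σ μ = -μ)
    (hμ0 : μ ≠ 0) (K : Subgroup (V ≃ₗ[F] V)) (huK : uel h fr (by omega) a c ∈ K)
    (hvK : v2el h fr hm a c μ ∈ K)
    (hΓ : ∀ γ : F, γ • e 1 ∈ aSet h K (e 0) (fr.ee 0 0 (by omega) (by omega)))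
    {a1 : F} (ha1 : σ a1 = -a1) (ha10 : a1 ≠ 0)
    (ha1K : tv h (e 0) a1 (fr.ee 0 0 (by omega) (by omega)) ∈ K) (z : V) (hz : H z (e 0) = 0) :
    z ∈ aSet h K (e 0) (fr.ee 0 0 (by omega) (by omega)) := by
  have hσ2 := WittHerm.sigma_sigma hσ
  have he0 : H (e 0) (e 0) = 0 := fr.ee 0 0 (by omega) (by omega)
  have hu := uel_mem_isom h fr (show 1 ≤ m by omega) hc
  have hv := v2el_mem_isom h fr hm a c μ hc hμ hμ0
  have hκ : σ μ⁻¹ = -μ⁻¹ := by rw [map_inv₀, hμ, inv_neg]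
  -- Step 5: all multiples of `p = e 0 + μ⁻¹ f 1` lie in `A`
  have hp : ∀ γ : F, (a1 * μ⁻¹ * γ) • (e 0 + μ⁻¹ • f 1) ∈ aSet h K (e 0) he0 := by
    intro γ
    have hx : eich h (e 0) 0 a1 he0 (h.zero_left (e 0)) ∈ K := by
      rw [eich_zero_eq_tv]
      exact ha1K
    have h1 := aSet_comm h K (e 0) he0 hvK hv (hΓ γ) (h.zero_left (e 0))
      (by rw [ha1, h.zero_left]; ring) hx
      (by rw [v2el_e_zero h fr hm a c μ hμ0, h.add_left, h.smul_left, he0,
        fr.fe 1 0 (by omega) (by omega), if_neg (by omega)]; ring)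
      (by rw [map_zero, h.zero_left])
    rw [map_zero, smul_zero, zero_add, h.zero_left, map_zero, zero_sub,
      v2el_e_zero h fr hm a c μ hμ0, h.add_left, h.smul_left, h.smul_right, h.smul_right,
      fr.ee 0 1 (by omega) (by omega), fr.fe 1 1 (by omega) (by omega), if_pos rfl, mul_zero,
      zero_add, mul_one, map_mul, hκ, hσ2] at h1
    have h2 : -(a1 * (-μ⁻¹ * γ)) = a1 * μ⁻¹ * γ := by ring
    rwa [h2] at h1
  have hf1 : f 1 ∈ sSub h K (e 0) he0 := by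
    intro l
    have h1 := hp (l * μ * (a1 * μ⁻¹)⁻¹)
    have h2 : a1 * μ⁻¹ * (l * μ * (a1 * μ⁻¹)⁻¹) = l * μ := by
      field_simp
    rw [h2] at h1
    have h3 := aSet_sub h K (e 0) he0 h1 (aSet_smul_e0 h K (e 0) he0 hσ2 (l * μ))
    have h4 : (l * μ) • (e 0 + μ⁻¹ • f 1) - (l * μ) • e 0 = l • f 1 := by
      rw [smul_add, add_sub_cancel_left, smul_smul, mul_assoc, mul_inv_cancel₀ hμ0, mul_one]
    rwa [h4] at h3
  have he0S : e 0 ∈ sSub h K (e 0) he0 := fun l => aSet_smul_e0 h K (e 0) he0 hσ2 l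
  -- Step 6
  have h6 := cyc h fr hm ha (sSub h K (e 0) he0) he0S hf1
    (by
      intro x hx l
      rw [← map_smul]
      exact aSet_map h K (e 0) he0 huK hu (uel_e_zero h fr (by omega) a c) (hx l))
    (by
      intro x hx l
      rw [← map_smul]
      exact aSet_map_inv h K (e 0) he0 huK hu (uel_e_zero h fr (by omega) a c) (hx l))
    z hz
  have h7 := h6 1
  rwa [one_smul] at h7

omit [Finite F] in
/-- the commutator of two elements of `Q` is a central transvection -/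
theorem comm_tv_mem (K : Subgroup (V ≃ₗ[F] V)) (e0 : V) (he0 : H e0 e0 = 0) {z z' : V} {c c' : F}
    (hz : H z e0 = 0) (hz' : H z' e0 = 0) (hc : c + σ c + H z z = 0)
    (hc' : c' + σ c' + H z' z' = 0) (hK : eich h e0 z c he0 hz ∈ K)
    (hK' : eich h e0 z' c' he0 hz' ∈ K) : tv h e0 (H z' z - H z z') he0 ∈ K := by
  have hP1 := K.mul_mem hK hK'
  have hP2 := K.mul_mem hK' hK
  rw [eich_mul] at hP1 hP2
  have hzz : H (z + z') e0 = 0 := by rw [h.add_left, hz, hz', add_zero]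
  have hv : c + c' - H z' z + σ (c + c' - H z' z) + H (z + z') (z + z') = 0 := by
    rw [map_sub, map_add, h.add_left, h.add_right, h.add_right, ← h.symm z' z]
    linear_combination hc + hc'
  have hP2' : eich h e0 (z + z') (c' + c - H z z') he0 hzz ∈ K := by
    rw [eich_congr h he0 hzz rfl (add_comm z z') rfl]
    exact hP2
  have h1 := tv_mem_of_eich_mem h K e0 he0 hzz hv hP1 hP2'
  have h2 : c' + c - H z z' - (c + c' - H z' z) = H z' z - H z z' := by ring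
  rwa [h2] at h1

omit [Finite F] in
theorem isom_apply_left {g : V ≃ₗ[F] V} (hg : g ∈ isom H) (x y : V) :
    H (g y) x = H y (g⁻¹ x) := by
  have h1 : g (g⁻¹ x) = x := by
    rw [← LinearEquiv.mul_apply, mul_inv_cancel]
    rfl
  rw [← hg y (g⁻¹ x), h1]

omit [Finite F] in
include hσ in
/-- Steps 7 to 10: the subgroup contains all unitary transvections -/
theorem coreA (hnd : ∀ v, (∀ w, H v w = 0) → v = 0) {a c μ : F} (ha : a ≠ 0)
    (hc : c + σ c + a * σ a = 0) (hμ : σ μ = -μ)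
    (hμ0 : μ ≠ 0) (K : Subgroup (V ≃ₗ[F] V)) (huK : uel h fr (by omega) a c ∈ K)
    (hvK : v2el h fr hm a c μ ∈ K)
    (hΓ : ∀ γ : F, γ • e 1 ∈ aSet h K (e 0) (fr.ee 0 0 (by omega) (by omega)))
    {a1 : F} (ha1 : σ a1 = -a1) (ha10 : a1 ≠ 0)
    (ha1K : tv h (e 0) a1 (fr.ee 0 0 (by omega) (by omega)) ∈ K) : T h ≤ K := by
  have hσ2 := WittHerm.sigma_sigma hσ
  have he0 : H (e 0) (e 0) = 0 := fr.ee 0 0 (by omega) (by omega)
  have hu := uel_mem_isom h fr (show 1 ≤ m by omega) hc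
  have hv := v2el_mem_isom h fr hm a c μ hc hμ hμ0
  have hκ : σ μ⁻¹ = -μ⁻¹ := by rw [map_inv₀, hμ, inv_neg]
  have hA := aSet_eq_orth hσ h fr hm ha hc hμ hμ0 K huK hvK hΓ ha1 ha10 ha1K
  -- Step 7
  have hZ : ∀ b : F, σ b = -b → tv h (e 0) b he0 ∈ K := by
    intro b hb
    obtain ⟨l, hl⟩ := exists_sub_eq_of_skew hσ b hb
    obtain ⟨hz, c1, hc1, hK1⟩ := hA ((-l) • e 1)
      (by rw [h.smul_left, fr.ee 1 0 (by omega) (by omega), mul_zero])
    obtain ⟨hz', c2, hc2, hK2⟩ := hA (f 1) (by rw [fr.fe 1 0 (by omega) (by omega), if_neg (by omega)])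
    have h1 := comm_tv_mem h K (e 0) he0 hz hz' hc1 hc2 hK1 hK2
    rw [h.smul_right, h.smul_left, fr.fe 1 1 (by omega) (by omega), fr.ef 1 1 (by omega) (by omega),
      if_pos rfl, map_neg] at h1
    have h2 : -σ l * 1 - -l * 1 = b := by rw [← hl]; ring
    rwa [h2] at h1
  -- Step 8
  have hQ : ∀ (z : V) (c : F) (hz : H z (e 0) = 0), c + σ c + H z z = 0 →
      eich h (e 0) z c he0 hz ∈ K := by
    intro z c' hz hc'
    obtain ⟨hz', c0, hc0, hK0⟩ := hA z hz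
    have hskew : σ (c' - c0) = -(c' - c0) := by
      rw [map_sub]
      linear_combination hc' - hc0
    exact eich_mem_of_tv_mem h K (e 0) he0 hz hK0 (hZ _ hskew)
  -- Step 9
  obtain ⟨j, hj⟩ := exists_zpow_ne h fr hm ha hc
  have hgK : v2el h fr hm a c μ * uel h fr (by omega) a c ^ j * v2el h fr hm a c μ ∈ K :=
    K.mul_mem (K.mul_mem hvK (K.zpow_mem huK j)) hvK
  have hgi : v2el h fr hm a c μ * uel h fr (by omega) a c ^ j * v2el h fr hm a c μ ∈ isom H :=
    (isom H).mul_mem ((isom H).mul_mem hv ((isom H).zpow_mem hu j)) hv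
  refine endgame hσ2 h hnd (exists_trace_eq hσ) K (e 0) he0 hQ _ hgK hgi ?_
  have huj := (isom H).zpow_mem hu j
  have hw : H ((uel h fr (by omega) a c ^ j) (f 1)) (e 0) = 0 := by
    have h1 : H ((uel h fr (by omega) a c ^ j) (f 1)) (e 0) =
        H ((uel h fr (by omega) a c ^ j) (f 1)) ((uel h fr (by omega) a c ^ j) (e 0)) := by
      rw [zpow_apply_of_fixed (uel_e_zero h fr (by omega) a c)]
    rw [h1, huj, fr.fe 1 0 (by omega) (by omega), if_neg (by omega)]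
  rw [LinearEquiv.mul_apply, LinearEquiv.mul_apply, isom_apply_left hv,
    v2el_inv_e_zero h fr hm a c μ hμ0, v2el_e_zero h fr hm a c μ hμ0, map_add, map_smul,
    zpow_apply_of_fixed (uel_e_zero h fr (by omega) a c)]
  rw [h.add_left, h.sub_right, h.sub_right, h.smul_left, h.smul_left, h.smul_right, h.smul_right,
    he0, hw, fr.ef 0 1 (by omega) (by omega), if_neg (by omega), hκ,
    h.symm (f 1) ((uel h fr (by omega) a c ^ j) (f 1))]
  have hj' : σ (H (f 1) ((uel h fr (by omega) a c ^ j) (f 1))) ≠ 0 := by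
    simpa using hj
  have hμi : μ⁻¹ ≠ 0 := inv_ne_zero hμ0
  have h3 : 0 - -μ⁻¹ * 0 + (μ⁻¹ * 0 - μ⁻¹ * (-μ⁻¹ * σ (H (f 1) ((uel h fr (by omega) a c ^ j) (f 1))))) =
      μ⁻¹ * μ⁻¹ * σ (H (f 1) ((uel h fr (by omega) a c ^ j) (f 1))) := by ring
  rw [h3]
  exact mul_ne_zero (mul_ne_zero hμi hμi) hj'

end

end Cfsg.Agent.Lib.Helper1.SUR
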