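import Mathlib
import Cfsg.Agent.Lib.Helper1.SUR.Core4

set_option autoImplicit false

/-!
The multiplicative closure argument: `Γ = {γ : γ e₁ ∈ A}` is all of `F`.
-/

namespace Cfsg.Agent.Lib.Helper1.SUR

open Module Cfsg.Agent.Lib.Helper2 Cfsg.Agent.Lib.Helper2.IsomDecomp Cfsg.Agent.Lib.Helper2.UT
  Cfsg.Agent.Lib.Helper5.PSLCoset

variable {F : Type*} [Field F] {σ : F ≃+* F} {V : Type*} [AddCommGroup V] [Module F V]
  {H : V → V → F}

/-- the scalars `γ` with `γ v ∈ A` -/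
def gSub (h : IsHerm σ H) (K : Subgroup (V ≃ₗ[F] V)) (e0 : V) (he0 : H e0 e0 = 0) (v : V) :
    AddSubgroup F where
  carrier := {γ | γ • v ∈ aSet h K e0 he0}
  add_mem' := by
    intro x y hx hy
    show (x + y) • v ∈ aSet h K e0 he0
    rw [add_smul]
    exact aSet_add h K e0 he0 hx hy
  zero_mem' := by
    show (0 : F) • v ∈ aSet h K e0 he0
    rw [zero_smul]
    exact aSet_zero h K e0 he0
  neg_mem' := by
    intro x hx
    show (-x) • v ∈ aSet h K e0 he0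
    rw [neg_smul]
    exact aSet_neg h K e0 he0 hx

theorem mem_gSub (h : IsHerm σ H) (K : Subgroup (V ≃ₗ[F] V)) (e0 : V) (he0 : H e0 e0 = 0) (v : V)
    (γ : F) : γ ∈ gSub h K e0 he0 v ↔ γ • v ∈ aSet h K e0 he0 := Iff.rfl

section

variable (hσ2 : ∀ a : F, σ (σ a) = a) (h : IsHerm σ H) {m : ℕ} {e f : ℕ → V} {d : V}
  (fr : Frame H m e f d) (hm : 2 ≤ m)

/-- from `α' e₁ ∈ A` to a central transvection in `K` -/
theorem tv_mem_of_e_one {a c : F} (hc : c + σ c + a * σ a = 0) (K : Subgroup (V ≃ₗ[F] V))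
    (huK : uel h fr (by omega) a c ∈ K) {α : F}
    (hα : α • e 1 ∈ aSet h K (e 0) (fr.ee 0 0 (by omega) (by omega))) :
    tv h (e 0) (α - σ α) (fr.ee 0 0 (by omega) (by omega)) ∈ K := by
  have he0 : H (e 0) (e 0) = 0 := fr.ee 0 0 (by omega) (by omega)
  have hu := uel_mem_isom h fr (show 1 ≤ m by omega) hc
  obtain ⟨hz, c1, hc1, hK1⟩ := hα
  have h1 : uel h fr (by omega) a c * eich h (e 0) (α • e 1) c1 he0 hz *
      (uel h fr (by omega) a c)⁻¹ ∈ K := K.mul_mem (K.mul_mem huK hK1) (K.inv_mem huK)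
  rw [conj_eich h hu] at h1
  have h2 : uel h fr (by omega) a c (α • e 1) = α • e 1 + α • e 0 := by
    rw [map_smul, uel_e_one h fr hm a c, smul_add]
  have h3 := eich_add_smul h (e 0) (α • e 1) c1 α he0 hz
  have h4 : eich h (e 0) (α • e 1) (c1 + α - σ α) he0 hz ∈ K := by
    rw [← h3, eich_congr h he0 _ (uel_e_zero h fr (by omega) a c).symm h2.symm rfl]
    exact h1
  have h5 := tv_mem_of_eich_mem h K (e 0) he0 hz hc1 hK1 h4
  have h6 : c1 + α - σ α - c1 = α - σ α := by ring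
  rwa [h6] at h5

include hσ2 in
/-- the case `m ≥ 3` -/
theorem gammaTop3 (hm3 : 3 ≤ m) {a c μ α θ : F} (hc : c + σ c + a * σ a = 0) (hμ : σ μ = -μ)
    (hμ0 : μ ≠ 0) (K : Subgroup (V ≃ₗ[F] V)) (huK : uel h fr (by omega) a c ∈ K)
    (hvK : v2el h fr hm a c μ ∈ K) (hθ : ∀ x : F, x ≠ 0 → ∃ k : ℕ, x = θ ^ k)
    (hα : μ⁻¹ * α = θ) (hα0 : α ≠ 0)
    (hxK : eich h (e 0) (α • e 2) 0 (fr.ee 0 0 (by omega) (by omega))
      (by rw [h.smul_left, fr.ee 2 0 (by omega) (by omega), mul_zero]) ∈ K) :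
    (∀ γ : F, γ • e 1 ∈ aSet h K (e 0) (fr.ee 0 0 (by omega) (by omega))) ∧
      tv h (e 0) (α - σ α) (fr.ee 0 0 (by omega) (by omega)) ∈ K := by
  have he0 : H (e 0) (e 0) = 0 := fr.ee 0 0 (by omega) (by omega)
  have hu := uel_mem_isom h fr (show 1 ≤ m by omega) hc
  have hv := v2el_mem_isom h fr hm a c μ hc hμ hμ0
  have hκ : σ μ⁻¹ = -μ⁻¹ := by rw [map_inv₀, hμ, inv_neg]
  have hue0 := uel_e_zero h fr (show 1 ≤ m by omega) a c
  have hue1 := uel_e_one h fr hm a c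
  have hue2 : uel h fr (by omega) a c (e 2) = e 2 + e 1 :=
    uel_e_succ h fr (by omega) a c 1 (by omega)
  have hz2 : H (α • e 2) (e 0) = 0 := by
    rw [h.smul_left, fr.ee 2 0 (by omega) (by omega), mul_zero]
  have hv2 : 0 + σ 0 + H (α • e 2) (α • e 2) = 0 := by
    rw [h.smul_left, h.smul_right, fr.ee 2 2 (by omega) (by omega), map_zero]
    ring
  have hA2 : α • e 2 ∈ aSet h K (e 0) he0 := ⟨hz2, 0, hv2, hxK⟩
  have hsub : ∀ x ∈ aSet h K (e 0) he0, uel h fr (by omega) a c x - x ∈ aSet h K (e 0) he0 :=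
    fun x hx => aSet_sub h K (e 0) he0 (aSet_map h K (e 0) he0 huK hu hue0 hx) hx
  have hA1 : α ∈ gSub h K (e 0) he0 (e 1) := by
    have h1 := hsub _ hA2
    rw [map_smul, hue2, smul_add, add_sub_cancel_left] at h1
    exact h1
  have hmul : ∀ γ ∈ gSub h K (e 0) he0 (e 1), γ * θ ∈ gSub h K (e 0) he0 (e 1) := by
    intro γ hγ
    have h1 := aSet_comm h K (e 0) he0 hvK hv hγ hz2 hv2 hxK
      (by rw [v2el_e_zero h fr hm a c μ hμ0, h.add_left, h.smul_left, he0,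
        fr.fe 1 0 (by omega) (by omega), if_neg (by omega)]; ring)
      (by rw [map_smul, v2el_e_two h fr hm a c μ hμ0 hm3, h.smul_left, h.add_left, he0,
        fr.ee 2 0 (by omega) (by omega)]; ring)
    have hβ : σ (H (e 0 + μ⁻¹ • f 1) (γ • e 1)) = -μ⁻¹ * γ := by
      rw [h.add_left, h.smul_left, h.smul_right, h.smul_right, fr.ee 0 1 (by omega) (by omega),
        fr.fe 1 1 (by omega) (by omega), if_pos rfl, mul_zero, zero_add, mul_one, map_mul, hκ, hσ2]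
    have hδ : H (α • (e 2 + e 0)) (γ • e 1) = 0 := by
      rw [h.smul_left, h.add_left, h.smul_right, h.smul_right, fr.ee 2 1 (by omega) (by omega),
        fr.ee 0 1 (by omega) (by omega)]
      ring
    rw [map_smul, v2el_e_two h fr hm a c μ hμ0 hm3, v2el_e_zero h fr hm a c μ hμ0, hβ, hδ,
      map_zero, zero_mul, sub_zero, zero_smul, add_zero] at h1
    have h2 := hsub _ h1
    rw [map_smul, map_smul, map_add, hue2, hue0] at h2
    have h3 : (-(-μ⁻¹ * γ)) • α • (e 2 + e 1 + e 0) - (-(-μ⁻¹ * γ)) • α • (e 2 + e 0) =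
        (γ * θ) • e 1 := by
      rw [← hα]
      module
    rw [h3] at h2
    exact h2
  have htop := addSubgroup_eq_top (gSub h K (e 0) he0 (e 1)) θ α hθ hA1 hα0 hmul
  refine ⟨?_, tv_mem_of_e_one h fr hm hc K huK hA1⟩
  intro γ
  have : γ ∈ gSub h K (e 0) he0 (e 1) := by
    rw [htop]
    exact AddSubgroup.mem_top γ
  exact this

end

end Cfsg.Agent.Lib.Helper1.SUR
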