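import Mathlib
import Cfsg.Agent.Lib.Helper1.SUR.Core5

set_option autoImplicit false

/-!
The multiplicative closure argument in dimension five.
-/

namespace Cfsg.Agent.Lib.Helper1.SUR

open Module Cfsg.Agent.Lib.Helper2 Cfsg.Agent.Lib.Helper2.IsomDecomp Cfsg.Agent.Lib.Helper2.UT
  Cfsg.Agent.Lib.Helper5.PSLCoset

variable {F : Type*} [Field F] {σ : F ≃+* F} {V : Type*} [AddCommGroup V] [Module F V]
  {H : V → V → F}

section

variable (hσ2 : ∀ a : F, σ (σ a) = a) (h : IsHerm σ H) {m : ℕ} {e f : ℕ → V} {d : V}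
  (fr : Frame H m e f d) (hm : 2 ≤ m)

include hσ2 in
/-- the case `m = 2` -/
theorem gammaTop2 (hm2 : m = 2) {a c μ α θ cx : F} (hc : c + σ c + a * σ a = 0) (hμ : σ μ = -μ)
    (hμ0 : μ ≠ 0) (K : Subgroup (V ≃ₗ[F] V)) (huK : uel h fr (by omega) a c ∈ K)
    (hvK : v2el h fr hm a c μ ∈ K) (hθ : ∀ x : F, x ≠ 0 → ∃ k : ℕ, x = θ ^ k)
    (hcx : cx + σ cx + α * σ α = 0) (hmult : cx * μ⁻¹ * μ⁻¹ * (a * σ a) = θ)
    (ha : a ≠ 0) (hα0 : α ≠ 0)
    (hxK : eich h (e 0) (α • d) cx (fr.ee 0 0 (by omega) (by omega))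
      (by rw [h.smul_left, fr.de 0 (by omega), mul_zero]) ∈ K) :
    (∀ γ : F, γ • e 1 ∈ aSet h K (e 0) (fr.ee 0 0 (by omega) (by omega))) ∧
      tv h (e 0) (-(α * σ a) - σ (-(α * σ a))) (fr.ee 0 0 (by omega) (by omega)) ∈ K := by
  have he0 : H (e 0) (e 0) = 0 := fr.ee 0 0 (by omega) (by omega)
  have hu := uel_mem_isom h fr (show 1 ≤ m by omega) hc
  have hv := v2el_mem_isom h fr hm a c μ hc hμ hμ0
  have hκ : σ μ⁻¹ = -μ⁻¹ := by rw [map_inv₀, hμ, inv_neg]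
  have hue0 := uel_e_zero h fr (show 1 ≤ m by omega) a c
  have hue1 := uel_e_one h fr hm a c
  have hm1 : m - 1 = 1 := by omega
  have hud : uel h fr (by omega) a c d = d - σ a • e 1 := by
    have := uel_d h fr (show 1 ≤ m by omega) a c
    rwa [hm1] at this
  have huf : uel h fr (by omega) a c (f 1) = f 1 + a • d + c • e 1 := by
    have := uel_f_last h fr (show 1 ≤ m by omega) a c
    rwa [hm1] at this
  have hzd : H (α • d) (e 0) = 0 := by
    rw [h.smul_left, fr.de 0 (by omega), mul_zero]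
  have hvd : cx + σ cx + H (α • d) (α • d) = 0 := by
    rw [h.smul_left, h.smul_right, fr.dd]
    linear_combination hcx
  have hAd : α • d ∈ aSet h K (e 0) he0 := ⟨hzd, cx, hvd, hxK⟩
  have hsub : ∀ x ∈ aSet h K (e 0) he0, uel h fr (by omega) a c x - x ∈ aSet h K (e 0) he0 :=
    fun x hx => aSet_sub h K (e 0) he0 (aSet_map h K (e 0) he0 huK hu hue0 hx) hx
  have hA1 : -(α * σ a) ∈ gSub h K (e 0) he0 (e 1) := by
    have h1 := hsub _ hAd
    rw [map_smul, hud] at h1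
    have h2 : α • (d - σ a • e 1) - α • d = (-(α * σ a)) • e 1 := by module
    rw [h2] at h1
    exact h1
  have hσa : σ a ≠ 0 := by simpa using ha
  have hA10 : -(α * σ a) ≠ 0 := neg_ne_zero.2 (mul_ne_zero hα0 hσa)
  have hmul : ∀ γ ∈ gSub h K (e 0) he0 (e 1), γ * θ ∈ gSub h K (e 0) he0 (e 1) := by
    intro γ hγ
    have h1 := aSet_comm h K (e 0) he0 hvK hv hγ hzd hvd hxK
      (by rw [v2el_e_zero h fr hm a c μ hμ0, h.add_left, h.smul_left, he0,
        fr.fe 1 0 (by omega) (by omega), if_neg (by omega)]; ring)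
      (by rw [map_smul, v2el_d h fr hm a c μ hμ0 hm2, h.smul_left, h.sub_left, h.smul_left, he0,
        fr.de 0 (by omega)]; ring)
    have hβ : σ (H (e 0 + μ⁻¹ • f 1) (γ • e 1)) = -μ⁻¹ * γ := by
      rw [h.add_left, h.smul_left, h.smul_right, h.smul_right, fr.ee 0 1 (by omega) (by omega),
        fr.fe 1 1 (by omega) (by omega), if_pos rfl, mul_zero, zero_add, mul_one, map_mul, hκ, hσ2]
    have hδ : H (α • (d - σ a • e 0)) (γ • e 1) = 0 := by
      rw [h.smul_left, h.sub_left, h.smul_left, h.smul_right, h.smul_right,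
        fr.de 1 (by omega), fr.ee 0 1 (by omega) (by omega)]
      ring
    rw [map_smul, v2el_d h fr hm a c μ hμ0 hm2, v2el_e_zero h fr hm a c μ hμ0, hβ, hδ,
      map_zero, zero_sub] at h1
    have h1' : (μ⁻¹ * γ * α) • d + (cx * μ⁻¹ * γ * μ⁻¹) • f 1 +
        (cx * μ⁻¹ * γ - μ⁻¹ * γ * α * σ a) • e 0 ∈ aSet h K (e 0) he0 := by
      convert h1 using 1
      module
    have h2 := hsub _ h1'
    have h2' : (cx * μ⁻¹ * γ * μ⁻¹ * a) • d +
        (cx * μ⁻¹ * γ * μ⁻¹ * c - μ⁻¹ * γ * α * σ a) • e 1 ∈ aSet h K (e 0) he0 := by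
      convert h2 using 1
      simp only [map_add, map_smul, hud, huf, hue0]
      module
    have h3 := hsub _ h2'
    have h3' : (cx * μ⁻¹ * γ * μ⁻¹ * a * (-σ a)) • e 1 +
        (cx * μ⁻¹ * γ * μ⁻¹ * c - μ⁻¹ * γ * α * σ a) • e 0 ∈ aSet h K (e 0) he0 := by
      convert h3 using 1
      simp only [map_add, map_smul, hud, hue1]
      module
    have h4 := aSet_neg h K (e 0) he0 (aSet_sub h K (e 0) he0 h3'
      (aSet_smul_e0 h K (e 0) he0 hσ2 (cx * μ⁻¹ * γ * μ⁻¹ * c - μ⁻¹ * γ * α * σ a)))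
    show (γ * θ) • e 1 ∈ aSet h K (e 0) he0
    convert h4 using 1
    rw [← hmult]
    module
  have htop := addSubgroup_eq_top (gSub h K (e 0) he0 (e 1)) θ (-(α * σ a)) hθ hA1 hA10 hmul
  refine ⟨?_, tv_mem_of_e_one h fr hm hc K huK hA1⟩
  intro γ
  have : γ ∈ gSub h K (e 0) he0 (e 1) := by
    rw [htop]
    exact AddSubgroup.mem_top γ
  exact this

end

end Cfsg.Agent.Lib.Helper1.SUR
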