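import Mathlib
import Cfsg.Agent.Lib.Helper1.SUR.Core6

set_option autoImplicit false

/-!
Assembly: three conjugates of the regular unipotent element generate a group containing all
unitary transvections.
-/

namespace Cfsg.Agent.Lib.Helper1.SUR

open Module Cfsg.Agent.Lib.Helper2 Cfsg.Agent.Lib.Helper2.IsomDecomp Cfsg.Agent.Lib.Helper2.UT
  Cfsg.Agent.Lib.Helper5.PSLCoset

variable {F : Type*} [Field F] {σ : F ≃+* F} {V : Type*} [AddCommGroup V] [Module F V]
  {H : V → V → F}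

section

variable [Finite F] (hσ : orderOf σ = 2) (h : IsHerm σ H) {m : ℕ} {e f : ℕ → V} {d : V}
  (fr : Frame H m e f d) (hm : 2 ≤ m)

omit [Finite F] in
include hσ in
/-- the conjugating element `τ` for `m ≥ 3` (with `a = 1`) -/
theorem exists_tau3 (hm3 : 3 ≤ m) (c α : F) :
    ∃ (zt : V) (ct : F), H zt (e 0) = 0 ∧ ct + σ ct + H zt zt = 0 ∧
      zt - uel h fr (by omega) 1 c zt = α • e 2 ∧
      ct + σ ct + H (uel h fr (by omega) 1 c zt) zt = 0 := by
  have hσ2 := WittHerm.sigma_sigma hσ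
  rcases Nat.lt_or_ge 3 m with h4 | h3
  · -- `m ≥ 4`
    refine ⟨(-α) • e 3, 0, ?_, ?_, ?_, ?_⟩
    · rw [h.smul_left, fr.ee 3 0 (by omega) (by omega), mul_zero]
    · rw [h.smul_left, h.smul_right, fr.ee 3 3 (by omega) (by omega), map_zero]
      ring
    · rw [map_smul, uel_e_succ h fr (by omega) 1 c 2 (by omega)]
      module
    · rw [map_smul, uel_e_succ h fr (by omega) 1 c 2 (by omega), h.smul_left, h.smul_right,
        h.add_left, fr.ee 3 3 (by omega) (by omega), fr.ee 2 3 (by omega) (by omega), map_zero]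
      ring
  · -- `m = 3`
    have hm3' : m = 3 := by omega
    have hfix : σ (-(α * σ α)) = -(α * σ α) := by
      rw [map_neg, map_mul, hσ2]
      ring
    obtain ⟨ct, hct⟩ := exists_trace_eq hσ (-(α * σ α)) hfix
    have hud : uel h fr (by omega) 1 c d = d - e 2 := by
      have := uel_d h fr (show 1 ≤ m by omega) 1 c
      have h2 : m - 1 = 2 := by omega
      rwa [h2, map_one, one_smul] at this
    refine ⟨α • d, ct, ?_, ?_, ?_, ?_⟩
    · rw [h.smul_left, fr.de 0 (by omega), mul_zero]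
    · rw [h.smul_left, h.smul_right, fr.dd, hct]
      ring
    · rw [map_smul, hud]
      module
    · rw [map_smul, hud, h.smul_left, h.smul_right, h.sub_left, fr.dd, fr.ed 2 (by omega), hct]
      ring

include hσ fr hm in
/-- the case `m ≥ 3` -/
theorem main3 (hnd : ∀ v, (∀ w, H v w = 0) → v = 0) (hm3 : 3 ≤ m) :
    ∃ u g k : V ≃ₗ[F] V, (u ∈ isom H ∧ g ∈ isom H ∧ k ∈ isom H) ∧
      (LinearEquiv.det u = 1 ∧ LinearEquiv.det g = 1 ∧ LinearEquiv.det k = 1) ∧
      (IsNilpotent ((u : V →ₗ[F] V) - 1) ∧ ((u : V →ₗ[F] V) - 1) ^ (2 * m) ≠ 0) ∧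
      T h ≤ Subgroup.closure {u, g * u * g⁻¹, k * u * k⁻¹} := by
  have hσ2 := WittHerm.sigma_sigma hσ
  have he0 : H (e 0) (e 0) = 0 := fr.ee 0 0 (by omega) (by omega)
  obtain ⟨θ, hθ0, hθ, hθtr⟩ := exists_gen hσ
  obtain ⟨μ, hμ0, hμ⟩ := UT.exists_skew hσ
  obtain ⟨c, hc⟩ := exists_trace_eq hσ (-1 : F) (by rw [map_neg, map_one])
  have hc' : c + σ c + 1 * σ 1 = 0 := by
    rw [map_one, hc]
    ring
  obtain ⟨zt, ct, hzt, hct, hzx, hcx⟩ := exists_tau3 hσ h fr hm3 c (μ * θ)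
  have hu := uel_mem_isom h fr (show 1 ≤ m by omega) hc'
  have hue0 := uel_e_zero h fr (show 1 ≤ m by omega) 1 c
  have hτ := eich_mem_isom h (e 0) zt ct he0 hzt hct
  refine ⟨uel h fr (by omega) 1 c, eich h (e 0) zt ct he0 hzt, sgel h fr hm μ,
    ⟨hu, hτ, sgel_mem_isom h fr hm hμ hμ0⟩,
    ⟨det_uel h fr (by omega) 1 c, det_eich h (e 0) zt ct he0 hzt, det_sgel h fr hm μ⟩,
    ⟨uel_isNilpotent h fr (by omega) hc', uel_pow_ne_zero h fr (by omega) hc' one_ne_zero⟩, ?_⟩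
  obtain ⟨K, hK⟩ : ∃ K : Subgroup (V ≃ₗ[F] V), K = Subgroup.closure
      {uel h fr (by omega) 1 c, eich h (e 0) zt ct he0 hzt * uel h fr (by omega) 1 c *
        (eich h (e 0) zt ct he0 hzt)⁻¹, sgel h fr hm μ * uel h fr (by omega) 1 c *
        (sgel h fr hm μ)⁻¹} := ⟨_, rfl⟩
  rw [← hK]
  have huK : uel h fr (by omega) 1 c ∈ K := by
    rw [hK]
    exact Subgroup.subset_closure (by simp)
  have hv1K : eich h (e 0) zt ct he0 hzt * uel h fr (by omega) 1 c *
      (eich h (e 0) zt ct he0 hzt)⁻¹ ∈ K := by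
    rw [hK]
    exact Subgroup.subset_closure (by simp)
  have hvK : v2el h fr hm 1 c μ ∈ K := by
    rw [hK]
    exact Subgroup.subset_closure (by simp [v2el])
  have hα0 : μ * θ ≠ 0 := mul_ne_zero hμ0 hθ0
  have hxK : eich h (e 0) ((μ * θ) • e 2) 0 he0
      (by rw [h.smul_left, fr.ee 2 0 (by omega) (by omega), mul_zero]) ∈ K := by
    have h1 := K.mul_mem hv1K (K.inv_mem huK)
    rw [tau_comm h (e 0) he0 hu hue0 zt ct hzt hct] at h1
    rw [eich_congr h he0 _ rfl hzx.symm hcx.symm]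
    exact h1
  obtain ⟨hΓ, ha1K⟩ := gammaTop3 hσ2 h fr hm hm3 hc' hμ hμ0 K huK hvK hθ
    (by rw [← mul_assoc, inv_mul_cancel₀ hμ0, one_mul]) hα0 hxK
  have ha1 : μ * θ - σ (μ * θ) = μ * (θ + σ θ) := by
    rw [map_mul, hμ]
    ring
  refine coreA hσ h fr hm hnd one_ne_zero hc' hμ hμ0 K huK hvK hΓ (a1 := μ * θ - σ (μ * θ)) ?_ ?_ ha1K
  · rw [map_sub, hσ2]
    ring
  · rw [ha1]
    exact mul_ne_zero hμ0 hθtr

include hσ fr hm in
/-- the case `m = 2` -/
theorem main2 (hnd : ∀ v, (∀ w, H v w = 0) → v = 0) (hm2 : m = 2) :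
    ∃ u g k : V ≃ₗ[F] V, (u ∈ isom H ∧ g ∈ isom H ∧ k ∈ isom H) ∧
      (LinearEquiv.det u = 1 ∧ LinearEquiv.det g = 1 ∧ LinearEquiv.det k = 1) ∧
      (IsNilpotent ((u : V →ₗ[F] V) - 1) ∧ ((u : V →ₗ[F] V) - 1) ^ (2 * m) ≠ 0) ∧
      T h ≤ Subgroup.closure {u, g * u * g⁻¹, k * u * k⁻¹} := by
  have hσ2 := WittHerm.sigma_sigma hσ
  have he0 : H (e 0) (e 0) = 0 := fr.ee 0 0 (by omega) (by omega)
  obtain ⟨θ, hθ0, hθ, hθtr⟩ := exists_gen hσ
  obtain ⟨μ, hμ0, hμ⟩ := UT.exists_skew hσ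
  -- the parameters
  obtain ⟨t, ht⟩ : ∃ t : F, t = -(θ + σ θ) := ⟨_, rfl⟩
  have ht0 : t ≠ 0 := by rw [ht]; exact neg_ne_zero.2 hθtr
  have hσt : σ t = t := by
    rw [ht, map_neg, map_add, hσ2]
    ring
  obtain ⟨c, hcdef⟩ : ∃ c : F, c = σ θ / t := ⟨_, rfl⟩
  have hσc : σ c = θ / t := by rw [hcdef, map_div₀, hσ2, hσt]
  have hc' : c + σ c + 1 * σ 1 = 0 := by
    rw [hσc, hcdef, map_one, ht]
    field_simp
    ring
  have hν : σ (t * μ * μ) = t * μ * μ := by
    rw [map_mul, map_mul, hσt, hμ]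
    ring
  have hν0 : t * μ * μ ≠ 0 := mul_ne_zero (mul_ne_zero ht0 hμ0) hμ0
  obtain ⟨α, hα, hαfix⟩ := exists_norm_eq_not_fixed hσ (t * μ * μ) hν0 hν
  have hα0 : α ≠ 0 := by
    rintro rfl
    rw [zero_mul] at hα
    exact hν0 hα.symm
  obtain ⟨cx, hcxdef⟩ : ∃ cx : F, cx = α * σ α * σ c := ⟨_, rfl⟩
  have hcx : cx + σ cx + α * σ α = 0 := by
    have h1 : σ cx = α * σ α * c := by
      rw [hcxdef, map_mul, map_mul, hσ2, hσ2]
      ring
    rw [h1, hcxdef]
    have h2 : c + σ c = -1 := by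
      rw [map_one] at hc'
      linear_combination hc'
    linear_combination (α * σ α) * h2
  have hmult : cx * μ⁻¹ * μ⁻¹ * (1 * σ 1) = θ := by
    rw [hcxdef, hα, hσc, map_one]
    field_simp
  -- the element `τ`
  have hfix : σ (-((α * c) * σ (α * c))) = -((α * c) * σ (α * c)) := by
    rw [map_neg, map_mul, hσ2]
    ring
  obtain ⟨ct, hct0⟩ := exists_trace_eq hσ (-((α * c) * σ (α * c))) hfix
  have hm1 : m - 1 = 1 := by omega
  have hud : uel h fr (by omega) 1 c d = d - e 1 := by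
    have := uel_d h fr (show 1 ≤ m by omega) 1 c
    rwa [hm1, map_one, one_smul] at this
  have huf : uel h fr (by omega) 1 c (f 1) = f 1 + d + c • e 1 := by
    have := uel_f_last h fr (show 1 ≤ m by omega) 1 c
    rwa [hm1, one_smul] at this
  obtain ⟨zt, hztdef⟩ : ∃ zt : V, zt = (-α) • f 1 - (α * c) • d := ⟨_, rfl⟩
  have hzt : H zt (e 0) = 0 := by
    rw [hztdef, h.sub_left, h.smul_left, h.smul_left, fr.fe 1 0 (by omega) (by omega),
      if_neg (by omega), fr.de 0 (by omega)]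
    ring
  have hdz : H d zt = -σ (α * c) := by
    rw [hztdef, h.sub_right, h.smul_right, h.smul_right, fr.df 1 (by omega), fr.dd]
    ring
  have hfz : H (f 1) zt = 0 := by
    rw [hztdef, h.sub_right, h.smul_right, h.smul_right, fr.ff 1 1 (by omega) (by omega),
      fr.fd 1 (by omega)]
    ring
  have hzz : H zt zt = (α * c) * σ (α * c) := by
    have h1 : H zt zt = H ((-α) • f 1 - (α * c) • d) zt := by rw [← hztdef]
    rw [h1, h.sub_left, h.smul_left, h.smul_left, hfz, hdz]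
    ring
  have hct : ct + σ ct + H zt zt = 0 := by
    rw [hzz, hct0]
    ring
  have huzt : uel h fr (by omega) 1 c zt = zt - α • d := by
    rw [hztdef, map_sub, map_smul, map_smul, huf, hud]
    module
  have hzx : zt - uel h fr (by omega) 1 c zt = α • d := by
    rw [huzt]
    abel
  have hcxeq : ct + σ ct + H (uel h fr (by omega) 1 c zt) zt = cx := by
    rw [huzt, h.sub_left, h.smul_left, hdz, hzz, hct0, hcxdef, map_mul]
    ring
  have hu := uel_mem_isom h fr (show 1 ≤ m by omega) hc'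
  have hue0 := uel_e_zero h fr (show 1 ≤ m by omega) 1 c
  have hτ := eich_mem_isom h (e 0) zt ct he0 hzt hct
  refine ⟨uel h fr (by omega) 1 c, eich h (e 0) zt ct he0 hzt, sgel h fr hm μ,
    ⟨hu, hτ, sgel_mem_isom h fr hm hμ hμ0⟩,
    ⟨det_uel h fr (by omega) 1 c, det_eich h (e 0) zt ct he0 hzt, det_sgel h fr hm μ⟩,
    ⟨uel_isNilpotent h fr (by omega) hc', uel_pow_ne_zero h fr (by omega) hc' one_ne_zero⟩, ?_⟩
  obtain ⟨K, hK⟩ : ∃ K : Subgroup (V ≃ₗ[F] V), K = Subgroup.closure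
      {uel h fr (by omega) 1 c, eich h (e 0) zt ct he0 hzt * uel h fr (by omega) 1 c *
        (eich h (e 0) zt ct he0 hzt)⁻¹, sgel h fr hm μ * uel h fr (by omega) 1 c *
        (sgel h fr hm μ)⁻¹} := ⟨_, rfl⟩
  rw [← hK]
  have huK : uel h fr (by omega) 1 c ∈ K := by
    rw [hK]
    exact Subgroup.subset_closure (by simp)
  have hv1K : eich h (e 0) zt ct he0 hzt * uel h fr (by omega) 1 c *
      (eich h (e 0) zt ct he0 hzt)⁻¹ ∈ K := by
    rw [hK]
    exact Subgroup.subset_closure (by simp)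
  have hvK : v2el h fr hm 1 c μ ∈ K := by
    rw [hK]
    exact Subgroup.subset_closure (by simp [v2el])
  have hxK : eich h (e 0) (α • d) cx he0
      (by rw [h.smul_left, fr.de 0 (by omega), mul_zero]) ∈ K := by
    have h1 := K.mul_mem hv1K (K.inv_mem huK)
    rw [tau_comm h (e 0) he0 hu hue0 zt ct hzt hct] at h1
    rw [eich_congr h he0 _ rfl hzx.symm hcxeq.symm]
    exact h1
  obtain ⟨hΓ, ha1K⟩ := gammaTop2 hσ2 h fr hm hm2 hc' hμ hμ0 K huK hvK hθ hcx hmult one_ne_zero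
    hα0 hxK
  refine coreA hσ h fr hm hnd one_ne_zero hc' hμ hμ0 K huK hvK hΓ
    (a1 := -(α * σ 1) - σ (-(α * σ 1))) ?_ ?_ ha1K
  · rw [map_sub, hσ2]
    ring
  · rw [map_one, mul_one, map_neg]
    intro h0
    apply hαfix
    linear_combination h0

include hσ fr hm in
/-- three conjugates of a regular unipotent element generate a subgroup containing all unitary
transvections, in dimension `2m+1 ≥ 5` -/
theorem main_abstract (hnd : ∀ v, (∀ w, H v w = 0) → v = 0) :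
    ∃ u g k : V ≃ₗ[F] V, (u ∈ isom H ∧ g ∈ isom H ∧ k ∈ isom H) ∧
      (LinearEquiv.det u = 1 ∧ LinearEquiv.det g = 1 ∧ LinearEquiv.det k = 1) ∧
      (IsNilpotent ((u : V →ₗ[F] V) - 1) ∧ ((u : V →ₗ[F] V) - 1) ^ (2 * m) ≠ 0) ∧
      T h ≤ Subgroup.closure {u, g * u * g⁻¹, k * u * k⁻¹} := by
  rcases Nat.lt_or_ge 2 m with h3 | h2
  · exact main3 hσ h fr hm hnd h3
  · exact main2 hσ h fr hm hnd (by omega)

end

end Cfsg.Agent.Lib.Helper1.SUR
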