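import Mathlib
import Cfsg.Prelude
import Cfsg.Agent.Lib.Helper1.SUR.Core7
import Cfsg.Agent.Lib.Helper7.SURFrame
import Cfsg.Agent.Lib.Helper8.SURWrap

set_option autoImplicit false

/-!
`SU_{2m+1}(q)`, `m ≥ 2`, is generated by three conjugate regular unipotent elements.
-/

namespace Cfsg.Agent.Lib.Helper1.SUR

open Module Cfsg.Agent.Lib.Helper2 Cfsg.Agent.Lib.Helper2.IsomDecomp Cfsg.Agent.Lib.Helper2.UT
  Cfsg.Agent.Lib.Helper5.PSLCoset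

theorem su_odd_three_conj {F : Type*} [Field F] [Fintype F] (q : ℕ)
    (hF : Fintype.card F = q ^ 2) (m : ℕ) (hm : 2 ≤ m) :
    ∃ u g h : ↥(Cfsg.SU (2 * m + 1) F q),
      (IsNilpotent (((u : Matrix.SpecialLinearGroup (Fin (2 * m + 1)) F) :
          Matrix (Fin (2 * m + 1)) (Fin (2 * m + 1)) F) - 1) ∧
        (((u : Matrix.SpecialLinearGroup (Fin (2 * m + 1)) F) :
          Matrix (Fin (2 * m + 1)) (Fin (2 * m + 1)) F) - 1) ^ (2 * m + 1 - 1) ≠ 0) ∧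
      Subgroup.closure ({u, g * u * g⁻¹, h * u * h⁻¹} : Set ↥(Cfsg.SU (2 * m + 1) F q)) = ⊤ := by
  obtain ⟨σ, hσ, hσq⟩ := HermDecomp.exists_sigma hF
  have hσ2 := WittHerm.sigma_sigma hσ
  have h := GUIsom.isHerm_hermForm (2 * m + 1) q σ hσ2 hσq
  have hq2 : 2 ≤ q := Cfsg.Agent.Lib.Helper1.HermCount.two_le_q hF
  have hnd : ∀ v : Fin (2 * m + 1) → F,
      (∀ w, Cfsg.hermForm (2 * m + 1) F q v w = 0) → v = 0 :=
    fun v hv => GUIsom.hermForm_nondeg (2 * m + 1) q (by omega) v hv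
  obtain ⟨e, f, d, fr⟩ := exists_frame hF m
  obtain ⟨u, g, k, hi, hd, ⟨hn1, hn2⟩, hT⟩ := main_abstract hσ h fr hm hnd
  exact wrap hF (2 * m + 1) (by omega) hσq h
    ⟨u, g, k, hi, hd, ⟨hn1, by simpa using hn2⟩, hT⟩ (by omega)

end Cfsg.Agent.Lib.Helper1.SUR
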